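import Cfsg.Agent.F4Mult34.Check
import Cfsg.Agent.KnownSimple.Steinberg.Gen.MultF4
import Cfsg.Prelude.Def_KGroupFacts

/-!
Stem extensions of the Chevalley group of type F4 over two elements have kernels of order at most two:
the root elements are lifted as brackets, all defects of the relations lie in a subgroup of order two, and
modulo this subgroup Steinberg's relations hold (helper34).
-/

set_option autoImplicit false

namespace Cfsg.Agent.F4Mult34

open Cfsg Cfsg.Lie Cfsg.Agent.ChevCore Cfsg.Agent.ChevGroup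
open Cfsg.Agent.KnownSimple.Steinberg Cfsg.Agent.KnownSimple.Steinberg.Gen
open scoped commutatorElement

universe u v

section Field

variable {F : Type u} [Field F]

theorem two_cases [Fintype F] (hF : Fintype.card F = 2) (t : F) : t = 0 ∨ t = 1 := by
  classical
  by_contra h
  push_neg at h
  have := Finset.card_le_univ ({0, 1, t} : Finset F)
  rw [hF, Finset.card_insert_of_notMem, Finset.card_insert_of_notMem, Finset.card_singleton] at this
  · omega
  · simpa using h.2.symm
  · simp [h.1.symm]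

theorem charP_two [Fintype F] (hF : Fintype.card F = 2) : CharP F 2 :=
  CharTwo.of_one_ne_zero_of_two_eq_zero one_ne_zero
    (by rcases two_cases hF (2 : F) with h | h
        · exact h
        · exact absurd (show (1 : F) = 0 by linear_combination h) one_ne_zero)

theorem cast_oddZ [CharP F 2] (z : ℤ) : (z : F) = if oddZ z then 1 else 0 := by
  have h0 : ((z.natAbs : ℕ) : F) = if oddZ z then 1 else 0 := by
    rw [oddZ, CharP.natCast_eq_natCast' F 2 (Nat.mod_modEq z.natAbs 2).symm]
    rcases Nat.mod_two_eq_zero_or_one z.natAbs with h | h <;> simp [h]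
  rw [← h0]
  rcases Int.natAbs_eq z with h | h <;> conv_lhs => rw [h]
  · rw [Int.cast_natCast]
  · rw [Int.cast_neg, Int.cast_natCast, CharTwo.neg_eq]

/-- a product over the commutator formula keeps the roots with odd coefficient -/
theorem prod_odd [CharP F 2] {G : Type*} [Monoid G] (f : ℕ → F → G) :
    ∀ L : List (ℕ × ℤ × ℕ × ℕ), (∀ c ∈ L, f c.1 0 = 1) →
      ((L.map fun c => (c.1, (c.2.1 : F))).map fun p => f p.1 p.2).prod =
        (((L.filter fun c => oddZ c.2.1).map Prod.fst).map fun r => f r 1).prod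
  | [], _ => rfl
  | c :: L, h => by
    rw [List.map_cons, List.map_cons, List.prod_cons,
      prod_odd f L fun d hd => h d (List.mem_cons_of_mem _ hd), cast_oddZ c.2.1]
    by_cases hc : oddZ c.2.1 = true
    · simp [hc]
    · simp [hc, h c List.mem_cons_self]

theorem word_one [CharP F 2] {r s : ℕ} :
    chevF4.commWord F r s 1 1 = (chevF4.commTerms r s).map fun c => (c.1, (c.2.1 : F)) := by
  refine List.map_congr_left fun c _ => ?_
  simp [CharTwo.neg_eq]

theorem nroots_F4 : chevF4.nroots = 48 := by decide +kernel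

theorem wtab_eq {r s : ℕ} (h : pairOK r s = true) :
    wtab tabW r s = ((chevF4.commTerms r s).filter fun c => oddZ c.2.1).map Prod.fst := by
  obtain ⟨hr, hs, -⟩ := pairOK_iff.1 h
  have h' := wordK_std
  simp only [wordK, kallUpTo_iff, forceN_eq, Bool.or_eq_true, Bool.not_eq_true', oddW,
    commW_std] at h'
  exact eq_of_leq ((h' r hr s hs).resolve_left (by simp [h]))

theorem neg_F4 {r : ℕ} (hr : r < 48) : chevF4.neg r = 47 - r := by
  rw [packF4.dok.neg_eq (by rw [nroots_F4]; exact hr), nroots_F4]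

theorem pairOK_of {r s : ℕ} (hr : r < 48) (hs : s < 48) (h1 : s ≠ r) (h2 : s ≠ chevF4.neg r) :
    pairOK r s = true := by
  rw [neg_F4 hr] at h2
  exact pairOK_iff.2 ⟨hr, hs, h1.symm, by omega⟩

theorem of_pairOK {r s : ℕ} (h : pairOK r s = true) :
    r < chevF4.nroots ∧ s < chevF4.nroots ∧ s ≠ r ∧ s ≠ chevF4.neg r := by
  obtain ⟨hr, hs, h1, h2⟩ := pairOK_iff.1 h
  rw [neg_F4 hr, nroots_F4]
  exact ⟨hr, hs, h1.symm, by omega⟩

theorem terms_lt {r s : ℕ} (h : pairOK r s = true) {c : ℕ × ℤ × ℕ × ℕ}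
    (hc : c ∈ chevF4.commTerms r s) : c.1 < chevF4.nroots :=
  (packF4.comm.toGood.commTerms_coef (of_pairOK h).1 (of_pairOK h).2.1 hc).1

theorem xg_rel [CharP F 2] {r s : ℕ} (h : pairOK r s = true) :
    xg chevF4 F s 1 * xg chevF4 F r 1 =
      xg chevF4 F r 1 * xg chevF4 F s 1 * ((wtab tabW r s).map fun c => xg chevF4 F c 1).prod := by
  obtain ⟨hr, hs, h1, h2⟩ := of_pairOK h
  rw [packF4.comm.xg_comm hr hs h1 h2, wordG, word_one, wtab_eq h,
    prod_odd (fun r t => xg chevF4 F r t) _ fun c _ => packF4.comm.toGood.xg_zero _]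

end Field

theorem index_sq {u : ℕ} (h : u < 48) (r s : ℕ) : u ≠ 48 + 48 * r + s := by omega

theorem index_pair {r s : ℕ} (hs : s < 48) :
    ¬ 48 + 48 * r + s < 48 ∧ (48 + 48 * r + s - 48) / 48 = r ∧ (48 + 48 * r + s - 48) % 48 = s := by
  omega

variable {F : Type u} [Field F] [Fintype F]

/-- Modulo a central subgroup of order at most two, Steinberg's relations lift. -/
theorem exists_pre (hF : Fintype.card F = 2) {Γ : Type v} [Group Γ] (E : CExt chevF4 F Γ) :
    ∃ (K : Subgroup Γ) (Y : ℕ → Γ), K ≤ E.π.ker ∧ Finite K ∧ Nat.card K ≤ 2 ∧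
      (∀ r < 48, E.π (Y r) = xg chevF4 F r 1) ∧
      (∀ r < 48, Y r * Y r ∈ K) ∧
      ∀ r s, pairOK r s = true →
        ((Y r * Y s * ((wtab tabW r s).map Y).prod)⁻¹ * (Y s * Y r)) ∈ K := by
  classical
  haveI := charP_two hF
  have hD := packF4.comm.toGood
  let Y : ℕ → Γ := fun r =>
    ⁅(E.ℓ (tabC.getD r (0, 0)).2 1)⁻¹, (E.ℓ (tabC.getD r (0, 0)).1 1)⁻¹⁆
  have hπ : ∀ r < 48, E.π (Y r) = xg chevF4 F r 1 := by
    intro r hr
    obtain ⟨hp, hw⟩ := canon_pair hr
    have hrel := xg_rel (F := F) hp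
    rw [hw, List.map_singleton, List.prod_singleton] at hrel
    obtain ⟨ha, hb, -⟩ := of_pairOK hp
    show E.π ⁅_, _⁆ = _
    rw [map_commutatorElement, map_inv, map_inv, E.π_ℓ _ ha, E.π_ℓ _ hb, commutatorElement_def,
      inv_inv, inv_inv, mul_assoc (_⁻¹ * _⁻¹), hrel]
    group
  have hπw : ∀ w : List ℕ, (∀ c ∈ w, c < 48) →
      E.π (w.map Y).prod = (w.map fun c => xg chevF4 F c 1).prod := by
    intro w hw
    rw [map_list_prod, List.map_map]
    exact congrArg List.prod (List.map_congr_left fun c hc => hπ c (hw c hc))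
  have hwlt : ∀ {r s}, pairOK r s = true → ∀ c ∈ wtab tabW r s, c < 48 := by
    intro r s h c hc
    rw [wtab_eq h, List.mem_map] at hc
    obtain ⟨d, hd, rfl⟩ := hc
    exact nroots_F4 ▸ terms_lt h (List.mem_of_mem_filter hd)
  let raw : ℕ → Γ := fun u =>
    if u < 48 then Y u * Y u else
      if pairOK ((u - 48) / 48) ((u - 48) % 48) = true then
        (Y ((u - 48) / 48) * Y ((u - 48) % 48) *
          ((wtab tabW ((u - 48) / 48) ((u - 48) % 48)).map Y).prod)⁻¹ *
          (Y ((u - 48) % 48) * Y ((u - 48) / 48))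
      else 1
  have hraw : ∀ u, E.π (raw u) = 1 := by
    intro u
    simp only [raw]
    split_ifs with h1 h2
    · rw [map_mul, hπ u h1, ← hD.xg_add, CharTwo.add_self_eq_zero, hD.xg_zero]
    · obtain ⟨hr, hs, -⟩ := pairOK_iff.1 h2
      simp only [map_mul, map_inv, hπw _ (hwlt h2), hπ _ hr, hπ _ hs]
      rw [inv_mul_eq_one, xg_rel h2]
    · exact map_one _
  have hpair : ∀ {r s}, pairOK r s = true → raw (48 + 48 * r + s) =
      (Y r * Y s * ((wtab tabW r s).map Y).prod)⁻¹ * (Y s * Y r) := by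
    intro r s h
    obtain ⟨e1, e2, e3⟩ := index_pair (r := r) (pairOK_iff.1 h).2.1
    simp only [raw, e2, e3, if_neg e1, h, if_true]
  let φ : ℕ → Subgroup.center Γ := fun u => ⟨raw u, E.central (hraw u)⟩
  let S : Sys tabW Γ :=
    { y := Y
      φ := φ
      sq := fun r hr => by simp only [φ, raw, if_pos hr]
      comm := fun r s h => by
        show _ = _ * raw _
        rw [hpair h, mul_inv_cancel_left] }
  have h0 : ∀ u, known mask0 u = true → φ u = 1 := by
    intro u hu
    obtain ⟨r, hr, rfl⟩ := known_mask0 hu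
    obtain ⟨hp, hw⟩ := canon_pair hr
    obtain ⟨ha, hb, -⟩ := pairOK_iff.1 hp
    refine Subtype.ext ?_
    show raw (canId r) = 1
    rw [canId, hpair hp, hw, List.map_singleton, List.prod_singleton, inv_mul_eq_one]
    have e : ⁅(Y (tabC.getD r (0, 0)).2)⁻¹, (Y (tabC.getD r (0, 0)).1)⁻¹⁆ = Y r :=
      E.comm_congr (by rw [map_inv, map_inv, hπ _ hb, E.π_ℓ _ (nroots_F4 ▸ hb)])
        (by rw [map_inv, map_inv, hπ _ ha, E.π_ℓ _ (nroots_F4 ▸ ha)])
    rw [← e, commutatorElement_def]
    group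
  have h1 : ∀ u, known mask1 u = true → φ u = 1 := fun u hu =>
    Subgroup.mem_bot.1 (known_one S ⊥ (fun v hv => Subgroup.mem_bot.2 (h0 v hv)) u hu)
  have hz : φ zId ^ 2 = 1 := sq_z S h1
  have hall := known_all S (Subgroup.zpowers (φ zId)) fun u hu => by
    rcases known_maskZ hu with h | rfl
    · show φ u ∈ _
      rw [h1 u h]; exact one_mem _
    · exact Subgroup.mem_zpowers _
  have hmem : ∀ u, known maskAll u = true → raw u ∈ Subgroup.zpowers (raw zId) := by
    intro u hu
    obtain ⟨k, hk⟩ := hall u hu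
    exact ⟨k, congrArg Subtype.val hk⟩
  have hfin : IsOfFinOrder (raw zId) :=
    isOfFinOrder_iff_pow_eq_one.2 ⟨2, two_pos, congrArg Subtype.val hz⟩
  refine ⟨Subgroup.zpowers (raw zId), Y, Subgroup.zpowers_le.2 (hraw zId),
    hfin.finite_zpowers.to_subtype, ?_, hπ, fun r hr => ?_, fun r s h => ?_⟩
  · rw [Nat.card_zpowers]
    exact Nat.le_of_dvd two_pos (orderOf_dvd_of_pow_eq_one (congrArg Subtype.val hz))
  · have := hmem r (known_maskAll hr)
    simpa only [raw, if_pos hr] using this
  · exact hpair h ▸ hmem _ (known_maskAll_pair h)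

theorem card_ker_le_two (hF : Fintype.card F = 2) {Γ : Type v} [Group Γ]
    (σ : Γ →* ↥(chevF4.group F)) (hσ : IsStemExtension σ) :
    Finite σ.ker ∧ Nat.card σ.ker ≤ 2 := by
  classical
  haveI := charP_two hF
  have hS := packF4.dok
  have hD := hS.good
  obtain ⟨hsurj, hcen, hcom⟩ := hσ
  have hker : ((chevF4.group F).subtype.comp σ).ker = σ.ker :=
    MonoidHom.ker_comp_of_injective σ _ (Subgroup.subtype_injective _)
  let E : CExt chevF4 F Γ :=
    { π := (chevF4.group F).subtype.comp σ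
      central := hker.le.trans hcen
      ℓ := fun r t => if hr : r < chevF4.nroots then
        Function.surjInv hsurj ⟨xg chevF4 F r t, xg_mem_group hD hr t⟩ else 1
      π_ℓ := fun r hr t => by
        rw [MonoidHom.comp_apply, dif_pos hr, Function.surjInv_eq hsurj]
        rfl }
  obtain ⟨K, Y, hKker', hKfin, hK2, hπ, hsq, hcomm⟩ := exists_pre hF E
  have hKker : K ≤ σ.ker := hker ▸ hKker'
  haveI : K.Normal := ⟨fun n hn g => by
    rwa [Subgroup.mem_center_iff.1 (hcen (hKker hn)) g, mul_inv_cancel_right]⟩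
  let σ' : Γ ⧸ K →* ↥(chevF4.group F) := QuotientGroup.lift K σ hKker
  have hcen' : σ'.ker ≤ Subgroup.center (Γ ⧸ K) := by
    intro x hx
    obtain ⟨x, rfl⟩ := QuotientGroup.mk'_surjective K x
    refine Subgroup.mem_center_iff.2 fun y => ?_
    obtain ⟨y, rfl⟩ := QuotientGroup.mk'_surjective K y
    rw [← map_mul, ← map_mul, Subgroup.mem_center_iff.1 (hcen hx) y]
  have hker' : ((chevF4.group F).subtype.comp σ').ker = σ'.ker :=
    MonoidHom.ker_comp_of_injective σ' _ (Subgroup.subtype_injective _)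
  let E' : CExt chevF4 F (Γ ⧸ K) :=
    { π := (chevF4.group F).subtype.comp σ'
      central := hker'.le.trans hcen'
      ℓ := fun r t => QuotientGroup.mk' K (E.ℓ r t)
      π_ℓ := fun r hr t => E.π_ℓ r hr t }
  set q := QuotientGroup.mk' K
  have hsq' : ∀ r < 48, q (Y r) * q (Y r) = 1 := fun r hr => by
    rw [← map_mul]; exact (QuotientGroup.eq_one_iff _).2 (hsq r hr)
  let P : Pre chevF4 F (Γ ⧸ K) :=
    { π := E'.π
      y := fun r t => if t = 0 then 1 else q (Y r)
      π_y := fun r hr t => by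
        rcases two_cases hF t with rfl | rfl
        · rw [if_pos rfl, map_one, hD.xg_zero]
        · rw [if_neg one_ne_zero]
          exact hπ r (nroots_F4 ▸ hr)
      y_add := fun r hr t u => by
        rcases two_cases hF t with rfl | rfl <;> rcases two_cases hF u with rfl | rfl <;>
          simp [CharTwo.add_self_eq_zero, hsq' r (nroots_F4 ▸ hr)] }
  have hrel : P.AllRel := by
    intro r hr s hs h1 h2 t u
    have hp := pairOK_of (nroots_F4 ▸ hr) (nroots_F4 ▸ hs) h1 h2
    have hzero : ∀ v, P.y v 0 = 1 := fun v => if_pos rfl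
    have hdeg := fun c (hc : c ∈ chevF4.commTerms r s) => (packF4.comm.toGood.commTerms_coef hr hs hc)
    have hnil : t = 0 ∨ u = 0 → P.word (chevF4.commWord F r s (-t) (-u)) = 1 := by
      intro h0
      refine List.prod_eq_one fun g hg => ?_
      obtain ⟨p, hp', rfl⟩ := List.mem_map.1 hg
      obtain ⟨c, hc, rfl⟩ := List.mem_map.1 hp'
      obtain ⟨-, hi, hj, -⟩ := hdeg c hc
      have hz : (c.2.1 : F) * (- -t) ^ c.2.2.1 * (-u) ^ c.2.2.2 = 0 := by
        rcases h0 with rfl | rfl <;> simp [zero_pow (show c.2.2.1 ≠ 0 by omega),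
          zero_pow (show c.2.2.2 ≠ 0 by omega)]
      show P.y c.1 ((c.2.1 : F) * (- -t) ^ c.2.2.1 * (-u) ^ c.2.2.2) = 1
      rw [hz, hzero]
    rcases two_cases hF t with rfl | rfl
    · rw [hzero, commutatorElement_one_right, hnil (Or.inl rfl)]
    rcases two_cases hF u with rfl | rfl
    · rw [hzero, commutatorElement_one_left, hnil (Or.inr rfl)]
    rw [CharTwo.neg_eq, word_one, Pre.word, prod_odd P.y _ fun c _ => hzero _, ← wtab_eq hp]
    have hy : ∀ v, P.y v 1 = q (Y v) := fun v => if_neg one_ne_zero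
    simp only [hy]
    have e : q (Y s) * q (Y r) =
        q (Y r) * q (Y s) * ((wtab tabW r s).map fun c => q (Y c)).prod := by
      have h := (QuotientGroup.eq_one_iff _).2 (hcomm r s hp)
      change q _ = 1 at h
      rw [map_mul q _ (_ * _), map_inv, inv_mul_eq_one, map_mul, map_mul, map_mul, map_list_prod,
        List.map_map] at h
      exact h.symm
    have ir := inv_eq_of_mul_eq_one_right (hsq' r (nroots_F4 ▸ hr))
    have is' := inv_eq_of_mul_eq_one_right (hsq' s (nroots_F4 ▸ hs))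
    rw [show ((wtab tabW r s).map fun c => q (Y c)).prod = (q (Y r) * q (Y s))⁻¹ * (q (Y s) * q (Y r))
      by rw [e, inv_mul_cancel_left], mul_inv_rev, commutatorElement_def, ir, is']
    simp only [mul_assoc]
  let R := P.toBase hS hrel packF4.cert
  set H := Subgroup.closure {g | ∃ r t, r < chevF4.nroots ∧ g = R.y r t}
  have hHmap : H.map σ' = ⊤ := by
    refine Subgroup.map_injective (Subgroup.subtype_injective (chevF4.group F)) ?_
    rw [Subgroup.map_map, MonoidHom.map_closure, ← MonoidHom.range_eq_map, Subgroup.range_subtype]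
    conv_rhs => rw [group_eq_closure_xg hD]
    congr 1
    ext g
    constructor
    · rintro ⟨_, ⟨r, t, hr, rfl⟩, rfl⟩
      exact ⟨r, t, hr, R.π_y r hr t⟩
    · rintro ⟨r, t, hr, rfl⟩
      exact ⟨_, ⟨r, t, hr, rfl⟩, R.π_y r hr t⟩
  have htop : H = ⊤ := by
    have hdec : ∀ g : Γ ⧸ K, ∃ a ∈ H, ∃ z ∈ σ'.ker, g = a * z := by
      intro g
      obtain ⟨a, ha, e⟩ : σ' g ∈ H.map σ' := hHmap ▸ Subgroup.mem_top _
      exact ⟨a, ha, a⁻¹ * g, by simp [MonoidHom.mem_ker, e], by group⟩
    have hHc : commutator (Γ ⧸ K) ≤ H := by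
      rw [commutator_def, Subgroup.commutator_le]
      intro g _ g' _
      obtain ⟨a, ha, z, hz, rfl⟩ := hdec g
      obtain ⟨b, hb, w, hw, rfl⟩ := hdec g'
      rw [E'.comm_congr (v' := a) (w' := b) (by rw [map_mul]; simp [E', MonoidHom.mem_ker.1 hz])
        (by rw [map_mul]; simp [E', MonoidHom.mem_ker.1 hw])]
      exact mul_mem (mul_mem (mul_mem ha hb) (inv_mem ha)) (inv_mem hb)
    rw [eq_top_iff]
    intro g _
    obtain ⟨a, ha, z, hz, rfl⟩ := hdec g
    refine mul_mem ha (hHc ?_)
    obtain ⟨z, rfl⟩ := QuotientGroup.mk'_surjective K z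
    have hmem : QuotientGroup.mk' K z ∈ (commutator Γ).map (QuotientGroup.mk' K) :=
      Subgroup.mem_map_of_mem _ (hcom hz)
    rwa [commutator_def, Subgroup.map_commutator,
      Subgroup.map_top_of_surjective _ (QuotientGroup.mk'_surjective K), ← commutator_def] at hmem
  obtain ⟨hfin, hle⟩ := R.card_ker_le hS TypeF4.model htop
    (R.hh_mul hS TypeF4.model htop (nbrOK_of_mem (by simp))) elimF4 one_pos
  rw [Nat.gcd_one_left] at hle
  haveI : Finite ↥R.π.ker := hfin
  have hbot : R.π.ker = ⊥ := Subgroup.eq_bot_of_card_le _ hle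
  have hsub : σ.ker ≤ K := fun x hx => by
    have h1 : QuotientGroup.mk' K x ∈ R.π.ker := by
      show (chevF4.group F).subtype (σ x) = 1
      rw [MonoidHom.mem_ker.1 hx, map_one]
    rw [hbot, Subgroup.mem_bot] at h1
    exact (QuotientGroup.eq_one_iff x).1 h1
  exact ⟨Finite.of_injective _ (Subgroup.inclusion_injective hsub),
    (Subgroup.card_le_of_le hsub).trans hK2⟩

end Cfsg.Agent.F4Mult34
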