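import Cfsg.Agent.F4Mult34.Steps
import Cfsg.Agent.Lib.ChevCore.CertF4Table
import Cfsg.Agent.Lib.ChevCore.PackedF4
import Cfsg.Agent.KnownSimple.Steinberg.Gen.Small

/-!
The tables agree with the commutator formula of type F4 over two elements (helper34).
-/

set_option autoImplicit false

namespace Cfsg.Agent.F4Mult34

open Cfsg.Lie Cfsg.Agent.ChevCore

/-- parity of an integer -/
def oddZ (z : ℤ) : Bool := !(Nat.beq (z.natAbs % 2) 0)

/-- the roots with odd coefficient in the commutator formula -/
noncomputable def oddW (A : Acc) (r s : ℕ) : List ℕ :=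
  ((commW A r s).filter fun c => oddZ c.2.1).map Prod.fst

/-- `tabW` is the table of the formula -/
noncomputable def wordK (A : Acc) : Bool :=
  kallUpTo 48 fun r => forceN r fun r => kallUpTo 48 fun s => forceN s fun s =>
    !(pairOK r s) || leq (wtab tabW r s) (oddW A r s)

theorem wordK_std : wordK (std chevF4) = true := by
  rw [← (fast_eq_std chkLinkF4).1]
  decide +kernel

/-- the index of the canonical defect of the root `r` -/
def canId (r : ℕ) : ℕ := 48 + 48 * (tabC.getD r (0, 0)).1 + (tabC.getD r (0, 0)).2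

/-- the canonical pairs, the masks -/
noncomputable def tableK : Bool :=
  (kallUpTo 48 fun r => forceN r fun r =>
    forceN (tabC.getD r (0, 0)).1 fun a => forceN (tabC.getD r (0, 0)).2 fun b =>
      pairOK a b && leq (wtab tabW a b) [r] && known maskAll r &&
        kallUpTo 48 fun s => forceN s fun s => !(pairOK r s) || known maskAll (48 + 48 * r + s)) &&
    Nat.beq ((List.range 48).foldl (fun K r => addK K (canId r)) 0) mask0 &&
    Nat.beq (addK mask1 zId) maskZ

theorem tableK_eq : tableK = true := by decide +kernel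

theorem canon_pair {r : ℕ} (hr : r < 48) :
    pairOK (tabC.getD r (0, 0)).1 (tabC.getD r (0, 0)).2 = true ∧
      wtab tabW (tabC.getD r (0, 0)).1 (tabC.getD r (0, 0)).2 = [r] := by
  have h := tableK_eq
  simp only [tableK, Bool.and_eq_true, kallUpTo_iff, forceN_eq] at h
  exact ⟨(h.1.1 r hr).1.1.1, eq_of_leq (h.1.1 r hr).1.1.2⟩

theorem known_maskAll {r : ℕ} (hr : r < 48) : known maskAll r = true := by
  have h := tableK_eq
  simp only [tableK, Bool.and_eq_true, kallUpTo_iff, forceN_eq] at h
  exact (h.1.1 r hr).1.2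

theorem known_maskAll_pair {r s : ℕ} (h : pairOK r s = true) :
    known maskAll (48 + 48 * r + s) = true := by
  obtain ⟨hr, hs, -⟩ := pairOK_iff.1 h
  have h' := tableK_eq
  simp only [tableK, Bool.and_eq_true, kallUpTo_iff, forceN_eq, Bool.or_eq_true,
    Bool.not_eq_true'] at h'
  exact ((h'.1.1 r hr).2 s hs).resolve_left (by simp [h])

theorem known_maskZ {u : ℕ} (h : known maskZ u = true) : known mask1 u = true ∨ u = zId := by
  have h' := tableK_eq
  simp only [tableK, Bool.and_eq_true, Nat.beq_eq] at h'
  exact Sys.known_addK (h'.2 ▸ h)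

theorem known_foldl : ∀ (l : List ℕ) {K u : ℕ},
    known (l.foldl (fun K r => addK K (canId r)) K) u = true → known K u = true ∨ ∃ r ∈ l, u = canId r
  | [], _, _, h => Or.inl h
  | a :: l, _, _, h => by
    rcases known_foldl l h with h | ⟨r, hr, e⟩
    · rcases Sys.known_addK h with h | h
      · exact Or.inl h
      · exact Or.inr ⟨a, List.mem_cons_self, h⟩
    · exact Or.inr ⟨r, List.mem_cons_of_mem _ hr, e⟩

theorem known_mask0 {u : ℕ} (h : known mask0 u = true) : ∃ r < 48, u = canId r := by
  have h' := tableK_eq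
  simp only [tableK, Bool.and_eq_true, Nat.beq_eq] at h'
  rw [← h'.1.2] at h
  rcases known_foldl _ h with h | ⟨r, hr, e⟩
  · simp [known] at h
  · exact ⟨r, List.mem_range.1 hr, e⟩

end Cfsg.Agent.F4Mult34
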