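import Mathlib.GroupTheory.QuotientGroup.Basic

/-!
Defects of a central extension of a group with involutive generators and commutator relations: collection
of words, and certificates that derive equations between the defects (helper34).
-/

set_option autoImplicit false

namespace Cfsg.Agent.F4Mult34

/-- the pairs `(r, s)` with a relation: different and not opposite among `48` roots -/
def pairOK (r s : ℕ) : Bool :=
  Nat.blt r 48 && Nat.blt s 48 && !(Nat.beq r s) && !(Nat.beq (r + s) 47)

theorem pairOK_iff {r s : ℕ} :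
    pairOK r s = true ↔ r < 48 ∧ s < 48 ∧ r ≠ s ∧ r + s ≠ 47 := by
  simp [pairOK, and_assoc, Nat.blt_eq, ← Bool.not_eq_true]

/-- decoding of a word of at most two letters -/
def wdec (c : ℕ) : List ℕ :=
  if Nat.beq (c % 64) 0 then [] else
    (c % 64 - 1) :: (if Nat.beq (c / 64) 0 then [] else [c / 64 - 1])

/-- the word of the pair `(r, s)` -/
def wtab (T : List ℕ) (r s : ℕ) : List ℕ := wdec ((T.getD r 0 >>> (12 * s)) &&& 4095)

/-- the position of a letter -/
def posOf (P r : ℕ) : ℕ := (P >>> (5 * r)) &&& 31

/-- rewriting of an adjacent pair, with the index of the defect -/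
def sw (T : List ℕ) (a b : ℕ) : Option (List ℕ × ℕ) :=
  if Nat.beq a b then (if Nat.blt a 48 then some ([], a) else none)
  else if pairOK b a then some (b :: a :: wtab T b a, 48 + 48 * b + a) else none

/-- rewriting at the first inversion -/
def first (T : List ℕ) (P : ℕ) : List ℕ → Option (List ℕ × ℕ)
  | [] => none
  | [_] => none
  | a :: b :: t =>
    if Nat.beq a b || Nat.blt (posOf P b) (posOf P a) then
      (sw T a b).map fun x => (x.1 ++ t, x.2)
    else (first T P (b :: t)).map fun x => (a :: x.1, x.2)

/-- rewriting at the last inversion -/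
def last (T : List ℕ) (P : ℕ) : List ℕ → Option (List ℕ × ℕ)
  | [] => none
  | [_] => none
  | a :: b :: t =>
    match last T P (b :: t) with
    | some x => some (a :: x.1, x.2)
    | none =>
      if Nat.beq a b || Nat.blt (posOf P b) (posOf P a) then
        (sw T a b).map fun x => (x.1 ++ t, x.2)
      else none

/-- rewriting of the first pair -/
def head2 (T : List ℕ) : List ℕ → Option (List ℕ × ℕ)
  | a :: b :: t => (sw T a b).map fun x => (x.1 ++ t, x.2)
  | _ => none

/-- iterated rewriting -/
def iter (f : List ℕ → Option (List ℕ × ℕ)) : ℕ → List ℕ → List ℕ → List ℕ × List ℕ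
  | 0, w, acc => (w, acc)
  | n + 1, w, acc =>
    match f w with
    | none => (w, acc)
    | some x => iter f n x.1 (x.2 :: acc)

/-- the two evaluations of an equation: first inversions, against last inversions or a forced first
step -/
def sides (T : List ℕ) (P : ℕ) (w : List ℕ) (forced : Bool) :
    (List ℕ × List ℕ) × (List ℕ × List ℕ) :=
  (iter (first T P) 40 w [],
    if forced then
      match head2 T w with
      | none => (w, [])
      | some x => iter (first T P) 40 x.1 [x.2]
    else iter (last T P) 40 w [])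

/-- equality of lists of numbers -/
def leq : List ℕ → List ℕ → Bool
  | [], [] => true
  | a :: l, b :: m => Nat.beq a b && leq l m
  | _, _ => false

theorem eq_of_leq : ∀ {l m : List ℕ}, leq l m = true → l = m
  | [], [], _ => rfl
  | [], _ :: _, h => by simp [leq] at h
  | _ :: _, [], h => by simp [leq] at h
  | a :: l, b :: m, h => by
    simp only [leq, Bool.and_eq_true, Nat.beq_eq] at h
    rw [h.1, eq_of_leq h.2]

/-- membership in a mask -/
def known (K u : ℕ) : Bool := Nat.beq ((K >>> u) &&& 1) 1

/-- number of occurrences -/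
def occ (k : ℕ) : List ℕ → ℕ
  | [] => 0
  | a :: l => if Nat.beq a k then occ k l + 1 else occ k l

/-- all entries but `k` are in the mask -/
def inK (K k : ℕ) : List ℕ → Bool
  | [] => true
  | a :: l => (Nat.beq a k || known K a) && inK K k l

/-- remove one occurrence -/
def del (k : ℕ) : List ℕ → Option (List ℕ)
  | [] => none
  | a :: l => if Nat.beq a k then some l else (del k l).map (a :: ·)

/-- cancellation of common entries of two lists -/
def cancel : List ℕ → List ℕ → List ℕ × List ℕ
  | [], m => ([], m)
  | a :: l, m =>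
    match del a m with
    | some m' => cancel l m'
    | none => let x := cancel l m; (a :: x.1, x.2)

/-- one certificate step: the equation determines the defect `k` up to exponent `d` -/
def stepK (T : List ℕ) (Ps : List ℕ) (K d : ℕ) (e : List ℕ × ℕ × Bool × ℕ) : Bool :=
  let S := sides T (Ps.getD e.2.1 0) e.1 e.2.2.1
  let C := cancel S.1.2 S.2.2
  leq S.1.1 S.2.1 && inK K e.2.2.2 C.1 && inK K e.2.2.2 C.2 &&
    (Nat.beq (occ e.2.2.2 C.1 + d) (occ e.2.2.2 C.2) ||
      Nat.beq (occ e.2.2.2 C.2 + d) (occ e.2.2.2 C.1))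

/-- add to the mask -/
def addK (K k : ℕ) : ℕ := K ||| (1 <<< k)

/-- a list of steps -/
def runK (T Ps : List ℕ) : ℕ → List (List ℕ × ℕ × Bool × ℕ) → ℕ → Bool
  | K, [], K' => Nat.beq K K'
  | K, e :: l, K' => stepK T Ps K 1 e && runK T Ps (addK K e.2.2.2) l K'

/-- Lifts of involutive generators with their defects. -/
structure Sys (T : List ℕ) (Γ : Type*) [Group Γ] where
  y : ℕ → Γ
  φ : ℕ → Subgroup.center Γ
  sq : ∀ r, r < 48 → y r * y r = φ r
  comm : ∀ r s, pairOK r s = true →
    y s * y r = y r * y s * ((wtab T r s).map y).prod * φ (48 + 48 * r + s)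

namespace Sys

variable {T : List ℕ} {Γ : Type*} [Group Γ] (S : Sys T Γ)

/-- value of a word -/
def ev (w : List ℕ) : Γ := (w.map S.y).prod

/-- value of a list of defects -/
def dv (L : List ℕ) : Subgroup.center Γ := (L.map S.φ).prod

theorem zcomm (x y : Subgroup.center Γ) : x * y = y * x :=
  Subtype.ext (Subgroup.mem_center_iff.1 y.2 x)

theorem ev_cons (a : ℕ) (w : List ℕ) : S.ev (a :: w) = S.y a * S.ev w := List.prod_cons

theorem sw_sound {a b : ℕ} {x : List ℕ × ℕ} (h : sw T a b = some x) :
    S.y a * S.y b = S.ev x.1 * S.φ x.2 := by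
  unfold sw at h
  split at h
  · next hab =>
    split at h
    · next ha =>
      obtain rfl := Option.some.inj h
      obtain rfl : a = b := by simpa using hab
      simpa [ev] using S.sq a (by simpa using ha)
    · cases h
  · split at h
    · next hp =>
      obtain rfl := Option.some.inj h
      rw [S.comm b a hp]
      simp [ev, mul_assoc]
    · cases h

theorem head_sound {a b : ℕ} {t : List ℕ} {x : List ℕ × ℕ}
    (h : (sw T a b).map (fun x => (x.1 ++ t, x.2)) = some x) :
    S.ev (a :: b :: t) = S.ev x.1 * S.φ x.2 := by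
  obtain ⟨y, hy, rfl⟩ := Option.map_eq_some_iff.1 h
  rw [ev_cons, ev_cons, ← mul_assoc, S.sw_sound hy]
  show S.ev y.1 * _ * _ = (List.map S.y (y.1 ++ t)).prod * _
  rw [List.map_append, List.prod_append, mul_assoc, mul_assoc,
    ← Subgroup.mem_center_iff.1 (S.φ y.2).2]
  rfl

theorem first_sound (P : ℕ) : ∀ (w : List ℕ) {x : List ℕ × ℕ}, first T P w = some x →
    S.ev w = S.ev x.1 * S.φ x.2
  | [], x, h => by simp [first] at h
  | [a], x, h => by simp [first] at h
  | a :: b :: t, x, h => by
    rw [first] at h
    split at h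
    · exact S.head_sound h
    · obtain ⟨y, hy, rfl⟩ := Option.map_eq_some_iff.1 h
      rw [ev_cons, first_sound P (b :: t) hy, ev_cons, mul_assoc]

theorem last_sound (P : ℕ) : ∀ (w : List ℕ) {x : List ℕ × ℕ}, last T P w = some x →
    S.ev w = S.ev x.1 * S.φ x.2
  | [], x, h => by simp [last] at h
  | [a], x, h => by simp [last] at h
  | a :: b :: t, x, h => by
    rw [last] at h
    rcases hl : last T P (b :: t) with _ | y <;> simp only [hl] at h
    · split at h
      · exact S.head_sound h
      · cases h
    · obtain rfl := Option.some.inj h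
      rw [ev_cons, last_sound P (b :: t) hl, ev_cons, mul_assoc]

theorem iter_sound {f : List ℕ → Option (List ℕ × ℕ)}
    (hf : ∀ w x, f w = some x → S.ev w = S.ev x.1 * S.φ x.2) :
    ∀ (n : ℕ) (w acc : List ℕ),
      S.ev w * S.dv acc = S.ev (iter f n w acc).1 * S.dv (iter f n w acc).2
  | 0, w, acc => rfl
  | n + 1, w, acc => by
    unfold iter
    rcases hfw : f w with _ | x
    · rfl
    · dsimp only
      rw [← iter_sound hf n x.1 (x.2 :: acc), hf w x hfw, mul_assoc]
      simp [dv]

theorem sides_sound (P : ℕ) (w : List ℕ) (forced : Bool) :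
    S.ev w = S.ev (sides T P w forced).1.1 * S.dv (sides T P w forced).1.2 ∧
      S.ev w = S.ev (sides T P w forced).2.1 * S.dv (sides T P w forced).2.2 := by
  have h0 : S.ev w * S.dv [] = S.ev w := by simp [dv]
  refine ⟨?_, ?_⟩
  · rw [← h0]
    exact S.iter_sound (fun w x => S.first_sound P w) 40 w []
  · cases forced
    · rw [← h0]
      exact S.iter_sound (fun w x => S.last_sound P w) 40 w []
    · simp only [sides, if_true]
      match hh : head2 T w with
      | none => simp [dv]
      | some x =>
        dsimp only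
        rw [← S.iter_sound (fun w x => S.first_sound P w) 40 x.1 [x.2]]
        rcases w with _ | ⟨a, _ | ⟨b, t⟩⟩
        · simp [head2] at hh
        · simp [head2] at hh
        · rw [S.head_sound (x := x) hh]
          simp [dv]

theorem del_sound (k : ℕ) : ∀ {l l' : List ℕ}, del k l = some l' → S.dv l = S.φ k * S.dv l'
  | [], l', h => by simp [del] at h
  | a :: l, l', h => by
    have e : S.dv (a :: l) = S.φ a * S.dv l := List.prod_cons
    rw [e]
    rw [del] at h
    split at h
    · next ha =>
      obtain rfl := Option.some.inj h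
      rw [show a = k by simpa using ha]
    · obtain ⟨y, hy, rfl⟩ := Option.map_eq_some_iff.1 h
      rw [del_sound k hy, show S.dv (a :: y) = S.φ a * S.dv y from List.prod_cons]
      rw [← mul_assoc, ← mul_assoc, zcomm (S.φ _)]

theorem cancel_sound : ∀ l m : List ℕ,
    S.dv l * S.dv (cancel l m).2 = S.dv (cancel l m).1 * S.dv m
  | [], m => rfl
  | a :: l, m => by
    have e : S.dv (a :: l) = S.φ a * S.dv l := List.prod_cons
    rw [cancel]
    rcases hd : del a m with _ | m'
    · dsimp only
      rw [e, show S.dv (a :: (cancel l m).1) = S.φ a * S.dv (cancel l m).1 from List.prod_cons,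
        mul_assoc, mul_assoc, cancel_sound l m]
    · dsimp only
      rw [e, mul_assoc, cancel_sound l m', S.del_sound a hd]
      rw [← mul_assoc, ← mul_assoc, zcomm (S.φ _)]

theorem mk_dv (H : Subgroup (Subgroup.center Γ)) [H.Normal] {K k : ℕ}
    (hK : ∀ u, known K u = true → S.φ u ∈ H) :
    ∀ L : List ℕ, inK K k L = true → QuotientGroup.mk' H (S.dv L) = QuotientGroup.mk' H (S.φ k) ^ occ k L
  | [], _ => by simp [dv, occ]
  | a :: l, h => by
    simp only [inK, Bool.and_eq_true, Bool.or_eq_true] at h
    have e : S.dv (a :: l) = S.φ a * S.dv l := List.prod_cons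
    rw [e, map_mul, mk_dv H hK l h.2]
    by_cases ha : a = k
    · subst ha
      simp [occ, pow_succ']
    · have := h.1.resolve_left (by simpa using ha)
      rw [show QuotientGroup.mk' H (S.φ a) = 1 from (QuotientGroup.eq_one_iff _).2 (hK a this), one_mul]
      simp [occ, ha]

theorem stepK_sound (H : Subgroup (Subgroup.center Γ)) {Ps : List ℕ} {K d : ℕ}
    (hK : ∀ u, known K u = true → S.φ u ∈ H) {e : List ℕ × ℕ × Bool × ℕ}
    (h : stepK T Ps K d e = true) : S.φ e.2.2.2 ^ d ∈ H := by
  haveI : H.Normal := Subgroup.normal_of_comm H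
  simp only [stepK, Bool.and_eq_true, Bool.or_eq_true, Nat.beq_eq] at h
  obtain ⟨⟨⟨he, h1⟩, h2⟩, hc⟩ := h
  obtain ⟨a1, a2⟩ := S.sides_sound (Ps.getD e.2.1 0) e.1 e.2.2.1
  rw [← eq_of_leq he] at a2
  have hL : S.dv (sides T (Ps.getD e.2.1 0) e.1 e.2.2.1).1.2 =
      S.dv (sides T (Ps.getD e.2.1 0) e.1 e.2.2.1).2.2 :=
    Subtype.ext (mul_left_cancel (a1.symm.trans a2))
  have hc0 := S.cancel_sound (sides T (Ps.getD e.2.1 0) e.1 e.2.2.1).1.2
    (sides T (Ps.getD e.2.1 0) e.1 e.2.2.1).2.2
  rw [hL] at hc0
  have hz := congrArg (QuotientGroup.mk' H)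
    (mul_left_cancel (hc0.trans (zcomm _ _))).symm
  rw [S.mk_dv H hK _ h1, S.mk_dv H hK _ h2] at hz
  refine (QuotientGroup.eq_one_iff _).1 ?_
  show QuotientGroup.mk' H (S.φ e.2.2.2 ^ d) = 1
  rw [map_pow]
  rcases hc with hc | hc <;> rw [← hc, pow_add] at hz
  · exact left_eq_mul.1 hz
  · exact mul_eq_left.1 hz

theorem known_addK {K k u : ℕ} (h : known (addK K k) u = true) : known K u = true ∨ u = k := by
  simp only [known, addK, Nat.beq_eq] at h ⊢
  rcases eq_or_ne u k with rfl | hne
  · exact Or.inr rfl
  · refine Or.inl ?_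
    have h' : ((K ||| 1 <<< k).testBit u) = true := by
      rw [Nat.testBit, Nat.one_and_eq_mod_two, ← Nat.and_one_is_mod, h]; rfl
    rw [Nat.testBit_or, Nat.one_shiftLeft, Nat.testBit_two_pow] at h'
    have hu : K.testBit u = true := by simpa [Ne.symm hne] using h'
    rw [Nat.testBit, Nat.one_and_eq_mod_two] at hu
    rw [Nat.and_one_is_mod]
    simpa using hu

theorem runK_sound (H : Subgroup (Subgroup.center Γ)) {Ps : List ℕ} :
    ∀ {l : List (List ℕ × ℕ × Bool × ℕ)} {K K' : ℕ}, runK T Ps K l K' = true →
      (∀ u, known K u = true → S.φ u ∈ H) → ∀ u, known K' u = true → S.φ u ∈ H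
  | [], K, K', h, hK => by
    obtain rfl : K = K' := by simpa [runK] using h
    exact hK
  | e :: l, K, K', h, hK => by
    simp only [runK, Bool.and_eq_true] at h
    refine runK_sound H h.2 fun u hu => ?_
    rcases known_addK hu with hu | rfl
    · exact hK u hu
    · simpa using S.stepK_sound H hK h.1

end Sys

end Cfsg.Agent.F4Mult34
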