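import Cfsg.Agent.F4Mult34.Data

/-!
Certificate steps, part 3 (helper34).
-/

set_option autoImplicit false

namespace Cfsg.Agent.F4Mult34

theorem chunk9 : runK tabW tabP 526647232116960597462112359694424738172833766684001397089478566755591806768177361921751290519892364958380537874648449009334522536486451074290044928650187303942197542280291561663383079131161143857048734846628390236421922698055291116988925448228494796603112123251912745945678540779079980999152095664108094819667510663583340253256240169692262700000742368088158604214130995529207107497937879188350401690317151936423673798608011683123433841702983753701145204616252825253095760445785478077527294820948761452158540822595850146041638675343036783071944839248500380614986422961875127682082536998892361778491182295010285044499711912485685060744491050973979381425517072413358781987149243161865879931593081468213841100799 [([28,33,24], 69, false, 1235),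
    ([36,37,0], 27, false, 1841),
    ([40,18,17], 49, false, 901),
    ([40,19,16], 55, false, 854),
    ([11,38,17], 54, false, 891),
    ([40,20,15], 16, false, 807),
    ([43,27,10], 73, false, 667),
    ([1,40,33], 77, false, 2161),
    ([11,42,2], 32, false, 178),
    ([45,20,8], 21, false, 475),
    ([23,17,12], 32, false, 640),
    ([26,22,9], 33, false, 458),
    ([45,0,36], 10, false, 1797),
    ([0,42,13], 57, false, 1776),
    ([44,32,7], 24, false, 2162),
    ([34,30,10], 45, false, 1686),
    ([33,1,40], 39, false, 140),
    ([7,43,27], 44, false, 2120),
    ([15,10,40], 50, false, 797),
    ([24,7,37], 27, false, 1218),
    ([10,11,42], 17, false, 2067),
    ([22,7,32], 26, false, 415),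
    ([0,42,13], 18, false, 84),
    ([13,47,15], 35, false, 2311),
    ([29,25,15], 36, false, 1267),
    ([15,10,40], 77, false, 1455),
    ([45,18,10], 44, false, 936),
    ([42,7,28], 31, false, 522),
    ([6,33], 77, true, 1638),
    ([2,38], 63, true, 1874),
    ([39,15], 49, true, 1935),
    ([47,7], 44, true, 431),
    ([9,42], 57, true, 2073),
    ([13,41,19], 76, false, 2026),
    ([45,16,10], 44, false, 569),
    ([2,44,22], 78, false, 1124),
    ([1,45,20], 21, false, 1030)]
    526647232117439580329426552773767842143846671958782315979896893401476323030919002137527775123586635537510156939577071231525812465240325229879064936160486859537974793214582757288694162479635738033847589989493333702155781134035556471755066776789639395298204199175534295205429737497168612308343093247506586149997161960618125979468891516027868494221891142563714451869648427105194330008201692790585922162263850499643021661149799093509740909324585148637481509032450602743967596191567582360369361920967468638130438730994834930772454689355323256685250863624626264105914877195044819745804511691148769155807961324513305964736277461630731778677884831958242868956786887789438975179029712548315790651410449854494394023935 = true := by decide +kernel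

end Cfsg.Agent.F4Mult34
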