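import Cfsg.Agent.F4Mult34.Steps0
import Cfsg.Agent.F4Mult34.Steps1
import Cfsg.Agent.F4Mult34.Steps2
import Cfsg.Agent.F4Mult34.Steps3

/-!
The certificate (helper34).
-/

set_option autoImplicit false

namespace Cfsg.Agent.F4Mult34

theorem residual : stepK tabW tabP mask1 2 ([27,25,25], 69, false, 1275) = true := by decide +kernel

variable {Γ : Type*} [Group Γ] (S : Sys tabW Γ)

theorem known_one (H : Subgroup (Subgroup.center Γ))
    (h : ∀ u, known mask0 u = true → S.φ u ∈ H) : ∀ u, known mask1 u = true → S.φ u ∈ H :=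
  S.runK_sound H chunk7 (S.runK_sound H chunk6 (S.runK_sound H chunk5 (S.runK_sound H chunk4 (S.runK_sound H chunk3 (S.runK_sound H chunk2 (S.runK_sound H chunk1 (S.runK_sound H chunk0 (h))))))))

theorem known_all (H : Subgroup (Subgroup.center Γ))
    (h : ∀ u, known maskZ u = true → S.φ u ∈ H) : ∀ u, known maskAll u = true → S.φ u ∈ H :=
  S.runK_sound H chunk9 (S.runK_sound H chunk8 (h))

theorem sq_z (h : ∀ u, known mask1 u = true → S.φ u = 1) : S.φ zId ^ 2 = 1 :=
  Subgroup.mem_bot.1 (S.stepK_sound ⊥ (fun u hu => Subgroup.mem_bot.2 (h u hu)) residual)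

end Cfsg.Agent.F4Mult34
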